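import Cfsg.Agent.Lib.MaxInvNil.Main
import Cfsg.Agent.S2756
import Cfsg.Agent.Lib.ZJ.QdControl

/-!
# Coprime action: invariant subgroups of order divisible by `p` are nilpotent

`A` (solvable) acts coprimely on `G` and `p` is a prime dividing `|G|` such that every proper
`A`-invariant subgroup of order divisible by `p` is nilpotent. Then `G` is solvable.

For `p` odd this goes through Thompson's normal `p`-complement theorem and, for the complement,
through `MaxInvNil.Main.solvable_aux`. For `p = 2` this goes through the criterion of S2756 for a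
normal Sylow `2`-subgroup.
-/

set_option autoImplicit false
set_option linter.style.haveILetI false
set_option linter.unusedSectionVars false
set_option linter.unusedVariables false

namespace Cfsg.Agent.Lib.Contrib.MaxInvP

open Cfsg Cfsg.Agent.Lib.MaxInvNil.Main Cfsg.Agent.Lib.Core.Basic Cfsg.Agent.Lib.Transfer.Basic
open Cfsg.Agent.Lib.Coprime.Bridge

universe u v

variable {A : Type v} [Group A] [Finite A]

/-- Proper invariant subgroups of order divisible by `p` are nilpotent. -/
def Hyp (A : Type v) [Group A] (p : ℕ) (G : Type u) [Group G] [MulDistribMulAction A G] : Prop :=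
  ∀ H : Subgroup G, H ≠ ⊤ → Inv A H → p ∣ Nat.card H → Group.IsNilpotent H

/-- A subgroup of the quotient is nilpotent when its full preimage is. -/
theorem nilpotent_of_comap {G : Type u} [Group G] (N : Subgroup G) [N.Normal]
    (H : Subgroup (G ⧸ N)) (h : Group.IsNilpotent (H.comap (QuotientGroup.mk' N))) :
    Group.IsNilpotent H := by
  let f : H.comap (QuotientGroup.mk' N) →* H :=
    ((QuotientGroup.mk' N).comp (H.comap (QuotientGroup.mk' N)).subtype).codRestrict H (fun x => x.2)
  have hf : Function.Surjective f := by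
    rintro ⟨q, hq⟩
    obtain ⟨x, rfl⟩ := QuotientGroup.mk_surjective q
    exact ⟨⟨x, hq⟩, rfl⟩
  exact Group.nilpotent_of_surjective f hf

theorem comap_ne_top {G : Type u} [Group G] (N : Subgroup G) [N.Normal]
    {H : Subgroup (G ⧸ N)} (hH : H ≠ ⊤) : H.comap (QuotientGroup.mk' N) ≠ ⊤ := by
  intro h
  apply hH
  rw [eq_top_iff]
  intro q _
  obtain ⟨x, rfl⟩ := QuotientGroup.mk_surjective q
  have : x ∈ H.comap (QuotientGroup.mk' N) := by rw [h]; trivial
  exact this

theorem card_dvd_card_comap {G : Type u} [Group G] [Finite G] (N : Subgroup G) [N.Normal]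
    (H : Subgroup (G ⧸ N)) : Nat.card H ∣ Nat.card (H.comap (QuotientGroup.mk' N)) := by
  let f : H.comap (QuotientGroup.mk' N) →* H :=
    ((QuotientGroup.mk' N).comp (H.comap (QuotientGroup.mk' N)).subtype).codRestrict H (fun x => x.2)
  have hf : Function.Surjective f := by
    rintro ⟨q, hq⟩
    obtain ⟨x, rfl⟩ := QuotientGroup.mk_surjective q
    exact ⟨⟨x, hq⟩, rfl⟩
  exact Subgroup.card_dvd_of_surjective f hf

theorem le_comap {G : Type u} [Group G] (N : Subgroup G) [N.Normal]
    (H : Subgroup (G ⧸ N)) : N ≤ H.comap (QuotientGroup.mk' N) := by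
  intro x hx
  have : (QuotientGroup.mk' N) x = 1 := by
    rw [QuotientGroup.mk'_apply, QuotientGroup.eq_one_iff]
    exact hx
  show (QuotientGroup.mk' N) x ∈ H
  rw [this]
  exact H.one_mem

/-- The action on an invariant subgroup. -/
@[reducible] def subAct {G : Type u} [Group G] [MulDistribMulAction A G] (K : Subgroup G)
    (hK : Inv A K) : MulDistribMulAction A K where
  smul a k := ⟨a • (k : G), hK a k k.2⟩
  one_smul k := Subtype.ext (one_smul A (k : G))
  mul_smul a b k := Subtype.ext (mul_smul a b (k : G))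
  smul_mul a x y := Subtype.ext (smul_mul' a (x : G) (y : G))
  smul_one a := Subtype.ext (smul_one a)

section Compl

variable {G : Type u} [Group G] [Finite G] [MulDistribMulAction A G]

/-- The invariant `r`-Sylow subgroup of the `p`-complement, normalized by the Sylow `p`-subgroup. -/
theorem exists_doubly_invariant_sylow (hA : Group.IsSolvable A)
    (hcop : (Nat.card A).Coprime (Nat.card G)) {p : ℕ} [Fact p.Prime]
    {R K : Subgroup G} (hRinv : Inv A R) (hRp : IsPGroup p R) [hKn : K.Normal] (hKinv : Inv A K)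
    (hKcop : (Nat.card K).Coprime p) (r : ℕ) [Fact r.Prime] :
    ∃ T : Subgroup G, T ≤ K ∧ IsPGroup r T ∧ ¬ r ∣ T.relIndex K ∧ Inv A T ∧
      R ≤ Subgroup.normalizer (T : Set G) := by
  classical
  let R' : Subgroup (Gam A G) := R.map (inG : G →* Gam A G)
  let K' : Subgroup (Gam A G) := K.map (inG : G →* Gam A G)
  have hRA : rangeA A G ≤ Subgroup.normalizer ((R' : Subgroup (Gam A G)) : Set (Gam A G)) :=
    (rangeA_le_normalizer_map_iff R).2 hRinv
  have hKA : rangeA A G ≤ Subgroup.normalizer ((K' : Subgroup (Gam A G)) : Set (Gam A G)) :=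
    (rangeA_le_normalizer_map_iff K).2 hKinv
  have hRK : R' ≤ Subgroup.normalizer ((K' : Subgroup (Gam A G)) : Set (Gam A G)) := by
    rw [Subgroup.le_normalizer_iff]
    rintro _ ⟨x, -, rfl⟩ _ ⟨y, hy, rfl⟩
    refine ⟨x * y * x⁻¹, hKn.conj_mem y hy x, ?_⟩
    simp [map_mul, map_inv]
  have hcard_R' : Nat.card R' = Nat.card R :=
    Nat.card_congr (Subgroup.equivMapOfInjective R _ inG_injective).symm.toEquiv
  have hcard_K' : Nat.card K' = Nat.card K :=
    Nat.card_congr (Subgroup.equivMapOfInjective K _ inG_injective).symm.toEquiv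
  have hcopK : (Nat.card A).Coprime (Nat.card K) :=
    Nat.Coprime.coprime_dvd_right (Subgroup.card_subgroup_dvd_card K) hcop
  have hcopR : (Nat.card A).Coprime (Nat.card R) :=
    Nat.Coprime.coprime_dvd_right (Subgroup.card_subgroup_dvd_card R) hcop
  have hdisj : R' ⊓ rangeA A G = ⊥ := by
    have hc : (Nat.card R').Coprime (Nat.card (rangeA A G)) := by
      rw [hcard_R', card_rangeA]
      exact hcopR.symm
    exact Cfsg.Agent.Lib.Coprime.SchurZassenhaus.disjoint_of_coprime_card hc
  let B : Subgroup (Gam A G) := R' ⊔ rangeA A G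
  have hB : B ≤ Subgroup.normalizer ((K' : Subgroup (Gam A G)) : Set (Gam A G)) := sup_le hRK hKA
  have hcardB : Nat.card R * Nat.card A = Nat.card B := by
    have := Cfsg.Agent.Lib.Coprime.Action.card_sup_of_le_normalizer hRA hdisj
    rwa [hcard_R', card_rangeA] at this
  have hRKcop : (Nat.card R).Coprime (Nat.card K) := by
    obtain ⟨n, hn⟩ := IsPGroup.iff_card.1 hRp
    rw [hn]
    exact (Nat.Coprime.pow_right n hKcop).symm
  have hcopB : (Nat.card B).Coprime (Nat.card K') := by
    rw [← hcardB, hcard_K']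
    exact Nat.Coprime.mul_left hRKcop hcopK
  have hsolB : Group.IsSolvable B := by
    haveI : Group.IsNilpotent R' := (hRp.map (inG : G →* Gam A G)).isNilpotent
    let f : R' →* B := Subgroup.inclusion le_sup_left
    let g : B →* A := (SemidirectProduct.rightHom).comp B.subtype
    refine Group.isSolvable_of_ker_le_range f g ?_
    rintro ⟨x, hx⟩ hgx
    obtain ⟨k, hk, a, ⟨a', rfl⟩, rfl⟩ := Cfsg.Agent.Lib.Coprime.Action.exists_mul_of_mem_sup hRA hx
    have h1 : (SemidirectProduct.rightHom) (k * inA a') = (1 : A) := hgx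
    obtain ⟨y, hy, rfl⟩ := hk
    have h2 : a' = 1 := by simpa [inG, inA] using h1
    subst h2
    refine ⟨⟨inG y, ⟨y, hy, rfl⟩⟩, ?_⟩
    apply Subtype.ext
    simp [f, inA]
  obtain ⟨Q, hQ, hBQ⟩ := Cfsg.Agent.Lib.Coprime.Action.exists_invariant_sylowIn (p := r) hB hcopB
    (Or.inl hsolB)
  have hQK' : Q ≤ K' := hQ.1
  refine ⟨Q.comap (inG : G →* Gam A G), ?_, ?_, ?_, ?_, ?_⟩
  · intro x hx
    obtain ⟨y, hy, e⟩ := hQK' hx
    rwa [← inG_injective e]
  · exact hQ.2.1.comap_of_injective _ inG_injective
  · have hmap : (Q.comap (inG : G →* Gam A G)).map (inG : G →* Gam A G) = Q := by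
      apply le_antisymm (Subgroup.map_comap_le _ _)
      intro x hx
      obtain ⟨y, hy, rfl⟩ := hQK' hx
      exact ⟨y, hx, rfl⟩
    have hrel : (Q.comap (inG : G →* Gam A G)).relIndex K = Q.relIndex K' := by
      conv_rhs => rw [← hmap]
      exact (Subgroup.relIndex_map_map_of_injective _ _ inG_injective).symm
    rw [hrel]
    exact hQ.2.2
  · intro a x hx
    show (inG (a • x) : Gam A G) ∈ Q
    rw [← inA_conj_inG]
    exact Cfsg.Agent.Lib.Coprime.Action.conj_mem_of_le_normalizer
      ((le_sup_right : rangeA A G ≤ B).trans hBQ) ⟨a, rfl⟩ hx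
  · rw [Subgroup.le_normalizer_iff]
    intro x hx y hy
    show (inG (x * y * x⁻¹) : Gam A G) ∈ Q
    have h1 := Cfsg.Agent.Lib.Coprime.Action.conj_mem_of_le_normalizer
      ((le_sup_left : R' ≤ B).trans hBQ) (⟨x, hx, rfl⟩ : (inG x : Gam A G) ∈ R') hy
    simpa [map_mul, map_inv] using h1

/-- The complement is solvable. -/
theorem solvable_complement (hA : Group.IsSolvable A)
    (hcop : (Nat.card A).Coprime (Nat.card G)) {p : ℕ} [Fact p.Prime] (hyp : Hyp A p G)
    {R K : Subgroup G} (hRinv : Inv A R) (hRp : IsPGroup p R) (hpR : p ∣ Nat.card R)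
    [hKn : K.Normal] (hKinv : Inv A K) (hKcop : (Nat.card K).Coprime p)
    (hcompl : K.IsComplement' R) : Group.IsSolvable K := by
  classical
  by_cases hpg : ∃ r : ℕ, r.Prime ∧ IsPGroup r K
  · obtain ⟨r, hr, hrK⟩ := hpg
    haveI : Fact r.Prime := ⟨hr⟩
    haveI := hrK.isNilpotent
    infer_instance
  push Not at hpg
  have hcard : Nat.card K * Nat.card R = Nat.card G := hcompl.card_mul_card
  have hcoprime_elts : ∀ x ∈ R, ∀ y ∈ K, (orderOf y).Coprime (orderOf x) := by
    intro x hx y hy
    obtain ⟨n, hn⟩ := IsPGroup.iff_card.1 hRp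
    have h1 : orderOf x ∣ p ^ n := by
      rw [← hn]
      exact Subgroup.orderOf_dvd_natCard R hx
    have h2 : orderOf y ∣ Nat.card K := Subgroup.orderOf_dvd_natCard K hy
    exact Nat.Coprime.coprime_dvd_left h2
      (Nat.Coprime.coprime_dvd_right h1 (Nat.Coprime.pow_right n hKcop))
  -- `R` centralizes every invariant Sylow subgroup of `K`
  have hcent : ∀ r : ℕ, r.Prime → ∃ T : Subgroup G, T ≤ K ⊓ Subgroup.centralizer (R : Set G) ∧
      ¬ r ∣ T.relIndex K := by
    intro r hr
    haveI : Fact r.Prime := ⟨hr⟩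
    obtain ⟨T, hTK, hTp, hTi, hTinv, hRT⟩ :=
      exists_doubly_invariant_sylow hA hcop hRinv hRp hKinv hKcop r
    refine ⟨T, le_inf hTK ?_, hTi⟩
    have hTne : T ≠ K := by
      rintro rfl
      exact hpg r hr hTp
    have hdisj : T ⊓ R = ⊥ := by
      have hc : (Nat.card T).Coprime (Nat.card R) := by
        obtain ⟨n, hn⟩ := IsPGroup.iff_card.1 hRp
        rw [hn]
        exact Nat.Coprime.coprime_dvd_left (Subgroup.card_dvd_of_le hTK)
          (Nat.Coprime.pow_right n hKcop)
      exact Cfsg.Agent.Lib.Coprime.SchurZassenhaus.disjoint_of_coprime_card hc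
    have hsupcard := Cfsg.Agent.Lib.Coprime.Action.card_sup_of_le_normalizer hRT hdisj
    have hsup : T ⊔ R ≠ ⊤ := by
      intro htop
      rw [htop, Subgroup.card_top, ← hcard] at hsupcard
      have hRpos : 0 < Nat.card R := Nat.card_pos
      have h1 : Nat.card T = Nat.card K := Nat.eq_of_mul_eq_mul_right hRpos hsupcard
      exact hTne (Subgroup.eq_of_le_of_card_ge hTK h1.ge)
    have hnil := hyp _ hsup (inv_sup hTinv hRinv)
      (hpR.trans (Subgroup.card_dvd_of_le le_sup_right))
    intro t ht
    rw [Subgroup.mem_centralizer_iff]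
    intro x hx
    exact (Cfsg.Agent.Lib.OddLocal.CN.commute_of_coprime' hnil
      ((le_sup_left : T ≤ T ⊔ R) ht) ((le_sup_right : R ≤ T ⊔ R) hx)
      (hcoprime_elts x hx t (hTK ht))).symm.eq
  -- hence `R` centralizes `K`
  have hKR : K ≤ Subgroup.centralizer (R : Set G) := by
    set C := K ⊓ Subgroup.centralizer (R : Set G) with hC
    have hrel : C.relIndex K = 1 := by
      by_contra hne
      obtain ⟨r, hr, hrd⟩ := Nat.exists_prime_and_dvd hne
      obtain ⟨T, hTC, hTi⟩ := hcent r hr
      exact hTi (hrd.trans (Subgroup.relIndex_dvd_of_le_left K hTC))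
    rw [Subgroup.relIndex_eq_one] at hrel
    exact hrel.trans inf_le_right
  have hRKn : R ≤ Subgroup.normalizer (K : Set G) := by
    rw [Subgroup.normalizer_eq_top_iff.2 hKn]
    exact le_top
  -- every proper invariant subgroup of `K` is nilpotent
  have hprop : ∀ L : Subgroup G, L ≤ K → L ≠ K → Inv A L → Group.IsNilpotent L := by
    intro L hLK hLne hLinv
    have hRL : R ≤ Subgroup.normalizer (L : Set G) := by
      rw [Subgroup.le_normalizer_iff]
      intro x hx y hy
      have h1 := (Subgroup.mem_centralizer_iff.1 (hKR (hLK hy))) x hx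
      have h2 : x * y * x⁻¹ = y := by
        rw [h1]
        group
      rw [h2]
      exact hy
    have hdisj : L ⊓ R = ⊥ := by
      have hc : (Nat.card L).Coprime (Nat.card R) := by
        obtain ⟨n, hn⟩ := IsPGroup.iff_card.1 hRp
        rw [hn]
        exact Nat.Coprime.coprime_dvd_left (Subgroup.card_dvd_of_le hLK)
          (Nat.Coprime.pow_right n hKcop)
      exact Cfsg.Agent.Lib.Coprime.SchurZassenhaus.disjoint_of_coprime_card hc
    have hsupcard := Cfsg.Agent.Lib.Coprime.Action.card_sup_of_le_normalizer hRL hdisj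
    have hsup : L ⊔ R ≠ ⊤ := by
      intro htop
      rw [htop, Subgroup.card_top, ← hcard] at hsupcard
      have hRpos : 0 < Nat.card R := Nat.card_pos
      have h1 : Nat.card L = Nat.card K := Nat.eq_of_mul_eq_mul_right hRpos hsupcard
      exact hLne (Subgroup.eq_of_le_of_card_ge hLK h1.ge)
    have hnil := hyp _ hsup (inv_sup hLinv hRinv)
      (hpR.trans (Subgroup.card_dvd_of_le le_sup_right))
    exact isNilpotent_of_injective (Subgroup.inclusion (le_sup_left : L ≤ L ⊔ R))
      (Subgroup.inclusion_injective _)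
  letI := subAct K hKinv
  have hcopK : (Nat.card A).Coprime (Nat.card K) :=
    Nat.Coprime.coprime_dvd_right (Subgroup.card_subgroup_dvd_card K) hcop
  refine solvable_aux hA _ K rfl hcopK ?_
  intro H hH hHinv
  have hnil := hprop (H.map K.subtype) (Subgroup.map_subtype_le H) ?_ ?_
  · exact isNilpotent_of_injective (Subgroup.equivMapOfInjective H K.subtype K.subtype_injective).toMonoidHom
      (Subgroup.equivMapOfInjective H K.subtype K.subtype_injective).injective
  · intro he
    apply hH
    rw [eq_top_iff]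
    rintro ⟨x, hx⟩ -
    rw [← he] at hx
    obtain ⟨y, hy, e⟩ := hx
    have : y = ⟨x, by rw [← he]; exact ⟨y, hy, e⟩⟩ := Subtype.ext e
    rwa [this] at hy
  · rintro a _ ⟨y, hy, rfl⟩
    exact ⟨a • y, hHinv a y hy, rfl⟩

end Compl

section Main

/-- A group in which the order of `X` is odd or which is nilpotent has normal Sylow `2`-subgroups. -/
theorem normal_sylow_two {X : Type u} [Group X] [Finite X]
    (h : Group.IsNilpotent X ∨ ¬ 2 ∣ Nat.card X) (P : Sylow 2 X) : (P : Subgroup X).Normal := by
  classical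
  rcases h with h | h
  · haveI : Fact (Nat.Prime 2) := ⟨Nat.prime_two⟩
    exact (Group.isNilpotent_of_finite_tfae.out 0 3 rfl rfl).mp h 2 inferInstance P
  · have h1 : (P : Subgroup X) = ⊥ := by
      haveI : Fact (Nat.Prime 2) := ⟨Nat.prime_two⟩
      by_contra hne
      apply h
      have hdvd : 2 ∣ Nat.card (P : Subgroup X) := by
        obtain ⟨n, hn⟩ := IsPGroup.iff_card.1 P.isPGroup'
        rw [hn]
        have hn0 : n ≠ 0 := by
          rintro rfl
          rw [pow_zero] at hn
          exact hne ((Subgroup.eq_bot_iff_card _).2 hn)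
        exact dvd_pow_self 2 hn0
      exact hdvd.trans (Subgroup.card_subgroup_dvd_card _)
    rw [h1]
    infer_instance

open Cfsg.Agent.Lib.ZJ.Reduction Cfsg.Agent.Lib.ZJ.Main Cfsg.Agent.Lib.ZJ.QdControl in
/-- `Z(J(T))` is invariant. -/
theorem inv_centerThompsonA {G : Type u} [Group G] [Finite G] [MulDistribMulAction A G]
    {q : ℕ} [Fact q.Prime] {T : Subgroup G} (hT : IsPGroup q T) (hinv : Inv A T) :
    Inv A (centerThompsonAOf T) := by
  intro a x hx
  have hmap : T.map (MulDistribMulAction.toMonoidHom G a) = T := by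
    apply le_antisymm
    · rintro _ ⟨y, hy, rfl⟩
      exact hinv a y hy
    · intro y hy
      refine ⟨a⁻¹ • y, hinv a⁻¹ y hy, ?_⟩
      simp [MulDistribMulAction.toMonoidHom_apply]
  have h := Wf_map (W := WZJ) (isCharP_WZJ (p := q)) (MulDistribMulAction.toMonoidHom G a) T hT
    (fun x _ y _ h => MulAction.injective a h)
  rw [hmap, Wf_WZJ] at h
  rw [← h]
  exact ⟨x, hx, rfl⟩

/-- **The main theorem, for `A` solvable.** -/
theorem main_aux (hA : Group.IsSolvable A) (n : ℕ) : ∀ (G : Type u) [Group G] [Finite G]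
    [MulDistribMulAction A G], Nat.card G = n → (Nat.card A).Coprime (Nat.card G) →
    ∀ p : ℕ, p.Prime → p ∣ Nat.card G → Hyp A p G → Group.IsSolvable G := by
  induction n using Nat.strong_induction_on with
  | _ n ih =>
  intro G _ _ _ hn hcop p hp hpG hyp
  classical
  haveI : Fact p.Prime := ⟨hp⟩
  -- invariant normal solvable subgroups reduce the problem
  have stepR : ∀ N : Subgroup G, N.Normal → Inv A N → N ≠ ⊥ → Group.IsSolvable N →
      Group.IsSolvable G := by
    intro N hNn hNinv hN0 hNsol
    haveI := hNn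
    haveI := hNsol
    letI := quotAct N hNinv
    have hlt : Nat.card (G ⧸ N) < n := by
      rw [← hn, ← Subgroup.card_mul_index N]
      have h1 : 1 < Nat.card N := by
        rw [Finite.one_lt_card_iff_nontrivial]
        exact (Subgroup.nontrivial_iff_ne_bot N).2 hN0
      have h2 : Nat.card (G ⧸ N) = N.index := rfl
      have h3 : 0 < N.index := Nat.pos_of_ne_zero Subgroup.index_ne_zero_of_finite
      rw [h2]
      nlinarith
    have hcopq : (Nat.card A).Coprime (Nat.card (G ⧸ N)) :=
      Nat.Coprime.coprime_dvd_right (Subgroup.card_quotient_dvd_card N) hcop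
    have hsolq : Group.IsSolvable (G ⧸ N) := by
      by_cases hq : p ∣ Nat.card (G ⧸ N)
      · refine ih _ hlt (G ⧸ N) rfl hcopq p hp hq ?_
        intro H hH hHinv hpH
        exact nilpotent_of_comap N H (hyp _ (comap_ne_top N hH) (fun a x hx => hHinv a _ hx)
          (hpH.trans (card_dvd_card_comap N H)))
      · have hpN : p ∣ Nat.card N := by
          have h1 : Nat.card N * N.index = Nat.card G := Subgroup.card_mul_index N
          rw [← h1] at hpG
          rcases (Nat.Prime.dvd_mul hp).1 hpG with h | h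
          · exact h
          · exact absurd h hq
        refine solvable_aux hA _ (G ⧸ N) rfl hcopq ?_
        intro H hH hHinv
        exact nilpotent_of_comap N H (hyp _ (comap_ne_top N hH) (fun a x hx => hHinv a _ hx)
          (hpN.trans (Subgroup.card_dvd_of_le (le_comap N H))))
    haveI := hsolq
    exact Group.isSolvable_of_ker_le_range N.subtype (QuotientGroup.mk' N) (by
      intro x hx
      rw [MonoidHom.mem_ker, QuotientGroup.mk'_apply, QuotientGroup.eq_one_iff] at hx
      exact ⟨⟨x, hx⟩, rfl⟩)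
  by_cases hp2 : p = 2
  · -- the prime `2`
    subst hp2
    by_contra hsolG
    have hnorm : ∀ P : Sylow 2 G, (P : Subgroup G).Normal := by
      refine (Cfsg.Agent.S2756.result (G := G)).1.2 ?_
      intro q _ hq hqG T P
      obtain ⟨T₀, hT₀inv, hT₀p, hT₀i⟩ := exists_invariant_sylow (A := A) (G := G) hcop (Or.inl hA) q
      have hT₀ne : T₀ ≠ ⊥ := by
        rintro rfl
        apply hT₀i
        rw [Subgroup.index_bot]
        exact hqG
      set Z₀ := centerThompsonAOf T₀ with hZ₀
      have hZ₀inv : Inv A Z₀ := inv_centerThompsonA hT₀p hT₀inv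
      have hZ₀T : Z₀ ≤ T₀ := by
        rw [hZ₀, ← Cfsg.Agent.Lib.ZJ.QdControl.Wf_WZJ]
        exact Cfsg.Agent.Lib.ZJ.Main.Wf_le _
      have hZ₀0 : Z₀ ≠ ⊥ := by
        rw [hZ₀, ← Cfsg.Agent.Lib.ZJ.QdControl.Wf_WZJ]
        exact Cfsg.Agent.Lib.ZJ.Main.Wf_ne_bot (Cfsg.Agent.Lib.ZJ.QdControl.isCharP_WZJ (p := q)) _ hT₀p hT₀ne
      have hH₀ne : Subgroup.normalizer (Z₀ : Set G) ≠ ⊤ := by
        intro htop
        apply hsolG
        have hZn : Z₀.Normal := Subgroup.normalizer_eq_top_iff.1 htop
        have hZp : IsPGroup q Z₀ := hT₀p.to_le hZ₀T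
        haveI := hZp.isNilpotent
        exact stepR Z₀ hZn hZ₀inv hZ₀0 inferInstance
      have hdich₀ : Group.IsNilpotent (Subgroup.normalizer (Z₀ : Set G)) ∨
          ¬ 2 ∣ Nat.card (Subgroup.normalizer (Z₀ : Set G)) := by
        by_cases h2 : 2 ∣ Nat.card (Subgroup.normalizer (Z₀ : Set G))
        · exact Or.inl (hyp _ hH₀ne (inv_normalizer hZ₀inv) h2)
        · exact Or.inr h2
      -- transport to `T`
      let T₀' : Sylow q G := hT₀p.toSylow hT₀i
      obtain ⟨g, hg⟩ := MulAction.exists_smul_eq G T₀' T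
      have hTcj : (T : Subgroup G) = Cfsg.Agent.Lib.ZJ.Reduction.cj g T₀ := by
        rw [← hg]
        rfl
      have hHeq : Subgroup.normalizer (centerThompsonAOf (T : Subgroup G) : Set G) =
          Cfsg.Agent.Lib.ZJ.Reduction.cj g (Subgroup.normalizer (Z₀ : Set G)) := by
        rw [hTcj, ← Cfsg.Agent.Lib.ZJ.QdControl.Wf_WZJ,
          Cfsg.Agent.Lib.ZJ.Main.Wf_cj (Cfsg.Agent.Lib.ZJ.QdControl.isCharP_WZJ (p := q)) g T₀ hT₀p,
          Cfsg.Agent.Lib.ZJ.QdControl.Wf_WZJ]
        exact Cfsg.Agent.Lib.ZJ.Reduction.NN_cj g Z₀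
      refine normal_sylow_two ?_ P
      rw [hHeq]
      let e := Subgroup.equivMapOfInjective (Subgroup.normalizer (Z₀ : Set G))
        (MulAut.conj g).toMonoidHom (MulAut.conj g).injective
      rcases hdich₀ with h | h
      · left
        exact isNilpotent_of_injective e.symm.toMonoidHom e.symm.injective
      · right
        rw [show Nat.card (Cfsg.Agent.Lib.ZJ.Reduction.cj g (Subgroup.normalizer (Z₀ : Set G))) =
          Nat.card (Subgroup.normalizer (Z₀ : Set G)) from Nat.card_congr e.symm.toEquiv]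
        exact h
    apply hsolG
    obtain ⟨P⟩ : Nonempty (Sylow 2 G) := inferInstance
    have hPn := hnorm P
    have hPchar : (P : Subgroup G).Characteristic := Sylow.characteristic_of_normal P hPn
    have hPne : (P : Subgroup G) ≠ ⊥ := P.ne_bot_of_dvd_card hpG
    haveI := (P.isPGroup').isNilpotent
    exact stepR _ hPn (inv_of_char _) hPne inferInstance
  · -- an odd prime `p`
    obtain ⟨R₀, hRinv, hRp, hRi⟩ := exists_invariant_sylow (A := A) (G := G) hcop (Or.inl hA) p
    let R : Sylow p G := hRp.toSylow hRi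
    have hRval : (R : Subgroup G) = R₀ := rfl
    have hRinv' : Inv A (R : Subgroup G) := hRinv
    have hRne : (R : Subgroup G) ≠ ⊥ := R.ne_bot_of_dvd_card hpG
    have hpR : p ∣ Nat.card (R : Subgroup G) := by
      obtain ⟨k, hk⟩ := IsPGroup.iff_card.1 R.isPGroup'
      rw [hk]
      have hk0 : k ≠ 0 := by
        rintro rfl
        rw [pow_zero] at hk
        exact hRne ((Subgroup.eq_bot_iff_card _).2 hk)
      exact dvd_pow_self p hk0
    haveI : Nontrivial R := (Subgroup.nontrivial_iff_ne_bot _).2 hRne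
    set J := thompsonSubgroupOf p (R : Subgroup G) with hJ
    set Z := (R : Subgroup G) ⊓ Subgroup.centralizer ((R : Subgroup G) : Set G) with hZ
    have hJinv : Inv A J := inv_thompson p hRinv'
    have hZinv : Inv A Z := inv_inf hRinv' (inv_centralizer hRinv')
    have hZ0 : Z ≠ ⊥ := by
      haveI := (R.isPGroup').center_nontrivial
      obtain ⟨⟨z, hzc⟩, hz⟩ := exists_ne (1 : Subgroup.center (R : Subgroup G))
      intro h
      have hmem : (z : G) ∈ Z := by
        refine ⟨z.2, Subgroup.mem_centralizer_iff.2 fun y hy => ?_⟩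
        have := (Subgroup.mem_center_iff.1 hzc) ⟨y, hy⟩
        exact congrArg Subtype.val this
      rw [h, Subgroup.mem_bot] at hmem
      apply hz
      apply Subtype.ext
      exact Subtype.ext hmem
    have hZR : Z ≤ R := inf_le_left
    have hJR : J ≤ R := Subgroup.map_subtype_le _
    have hJ0 : J ≠ ⊥ := by
      intro hbot
      have hJ' : thompsonSubgroup p (R : Subgroup G) = ⊥ :=
        (Subgroup.map_eq_bot_iff_of_injective _ (R : Subgroup G).subtype_injective).1 hbot
      obtain ⟨x, hx⟩ := exists_prime_orderOf_dvd_card' (G := (R : Subgroup G)) p hpR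
      let S : Set (Subgroup (R : Subgroup G)) := {B | IsElementaryAbelian p B}
      have hE : Subgroup.zpowers x ∈ S := by
        refine ⟨IsCyclic.isMulCommutative, fun a ha => ?_⟩
        obtain ⟨n, rfl⟩ := Subgroup.mem_zpowers_iff.1 ha
        have hxr : x ^ p = 1 := by
          have h2 := pow_orderOf_eq_one x
          rwa [hx] at h2
        rw [← zpow_natCast, zpow_comm, zpow_natCast, hxr, one_zpow]
      obtain ⟨B, hB, hBmax⟩ := Set.exists_max_image S (fun B => Nat.card B) (Set.toFinite _) ⟨_, hE⟩
      have hBle : B ≤ thompsonSubgroup p (R : Subgroup G) := le_sSup ⟨hB, hBmax⟩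
      rw [hJ', le_bot_iff] at hBle
      have h1 := hBmax _ hE
      rw [hBle, Subgroup.card_bot, Nat.card_zpowers, hx] at h1
      exact hp.one_lt.not_ge h1
    have hpgroup_sol : ∀ X : Subgroup G, X ≤ R → Group.IsSolvable X := by
      intro X hX
      have hXp : IsPGroup p X := R.isPGroup'.to_le hX
      haveI := hXp.isNilpotent
      infer_instance
    by_cases hN1 : Subgroup.normalizer (J : Set G) = ⊤
    · exact stepR J (Subgroup.normalizer_eq_top_iff.1 hN1) hJinv hJ0 (hpgroup_sol J hJR)
    by_cases hN2 : Subgroup.centralizer (Z : Set G) = ⊤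
    · have hZn : Z.Normal := by
        constructor
        intro z hz g
        have : g ∈ Subgroup.centralizer (Z : Set G) := by rw [hN2]; trivial
        have h1 := (Subgroup.mem_centralizer_iff.1 this) z hz
        have h2 : g * z * g⁻¹ = z := by rw [← h1]; group
        rw [h2]
        exact hz
      exact stepR Z hZn hZinv hZ0 (hpgroup_sol Z hZR)
    -- `R` lies in both local subgroups
    have hRN : (R : Subgroup G) ≤ Subgroup.normalizer (J : Set G) := by
      intro g hg
      rw [Cfsg.Agent.Lib.ZJ.Reduction.mem_NN_iff_cj]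
      have h1 : (R : Subgroup G).map (MulAut.conj g).toMonoidHom = (R : Subgroup G) := by
        have := (Cfsg.Agent.Lib.ZJ.Reduction.mem_NN_iff_cj).1 (Subgroup.le_normalizer hg)
        exact this
      have h2 := Cfsg.Agent.Lib.Core.ThompsonMap.map_thompsonSubgroupOf (p := p)
        (S := (R : Subgroup G)) (MulAut.conj g).toMonoidHom R.isPGroup' (by
          have : (MulAut.conj g).toMonoidHom.ker = ⊥ :=
            (MonoidHom.ker_eq_bot_iff _).2 (MulAut.conj g).injective
          rw [this, Subgroup.card_bot]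
          exact Nat.coprime_one_left p)
      rw [h1] at h2
      exact h2
    have hRC : (R : Subgroup G) ≤ Subgroup.centralizer (Z : Set G) := by
      intro g hg
      rw [Subgroup.mem_centralizer_iff]
      intro z hz
      exact ((Subgroup.mem_centralizer_iff.1 hz.2) g hg).symm
    have hc1 := Cfsg.Agent.Lib.FPFThompson.Main.hasNormalPComplement_of_nilpotent p
      (hyp _ hN1 (inv_normalizer hJinv) (hpR.trans (Subgroup.card_dvd_of_le hRN)))
    have hc2 := Cfsg.Agent.Lib.FPFThompson.Main.hasNormalPComplement_of_nilpotent p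
      (hyp _ hN2 (inv_centralizer hZinv) (hpR.trans (Subgroup.card_dvd_of_le hRC)))
    have hpc : HasNormalPComplement p G := (Cfsg.Agent.S0108.result hp2 R).2 ⟨hc1, hc2⟩
    have hRes := isComplement'_pResidual hpc R
    haveI hresn : (pResidual p G).Normal := hRes_normal p
    by_cases hres0 : pResidual p G = ⊥
    · have h1 := hRes.card_mul_card
      rw [hres0, Subgroup.card_bot, one_mul] at h1
      have h2 : (R : Subgroup G) = ⊤ := Subgroup.eq_top_of_card_eq _ h1
      have h3 : IsPGroup p G := by
        intro g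
        obtain ⟨k, hk⟩ := R.isPGroup' ⟨g, by rw [h2]; trivial⟩
        exact ⟨k, congrArg Subtype.val hk⟩
      haveI := h3.isNilpotent
      infer_instance
    · have hKsol : Group.IsSolvable (pResidual p G) :=
        solvable_complement hA hcop hyp hRinv' R.isPGroup' hpR (inv_pResidual p)
          (hasNormalPComplement_iff_pResidual.mp hpc) hRes
      exact stepR _ hresn (inv_pResidual p) hres0 hKsol

/-- **The theorem.** `hFT` is the odd order theorem. -/
theorem main {A : Type v} {G : Type u} [Group A] [Group G] [Finite A] [Finite G]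
    [MulDistribMulAction A G] (hFTA : Odd (Nat.card A) → Group.IsSolvable A)
    (hFTG : Odd (Nat.card G) → Group.IsSolvable G)
    (hcop : (Nat.card A).Coprime (Nat.card G)) (p : ℕ) (hp : p.Prime) (hpG : p ∣ Nat.card G)
    (hmax : ∀ H : Subgroup G, H ≠ ⊤ → (∀ a : A, ∀ x ∈ H, a • x ∈ H) →
      (∀ K : Subgroup G, H < K → (∀ a : A, ∀ x ∈ K, a • x ∈ K) → K = ⊤) → p ∣ Nat.card H →
        Group.IsNilpotent H) :
    Group.IsSolvable G := by
  classical
  have hA : Group.IsSolvable A ∨ Group.IsSolvable G := by
    rcases Nat.even_or_odd (Nat.card A) with hAe | hAo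
    · right
      apply hFTG
      by_contra hG'
      have hG2 : 2 ∣ Nat.card G := even_iff_two_dvd.1 (Nat.not_odd_iff_even.1 hG')
      have hA2 : 2 ∣ Nat.card A := even_iff_two_dvd.1 hAe
      have := Nat.dvd_gcd hA2 hG2
      rw [hcop.gcd_eq_one] at this
      omega
    · exact Or.inl (hFTA hAo)
  rcases hA with hA | hG
  · refine main_aux hA _ G rfl hcop p hp hpG ?_
    intro H hH hHinv hpH
    obtain ⟨M, hHM, hM⟩ := Finite.exists_le_maximal
      (p := fun K : Subgroup G => K ≠ ⊤ ∧ Inv A K) (a := H) ⟨hH, hHinv⟩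
    have hnil := hmax M hM.prop.1 hM.prop.2 (fun K hMK hK => by
      by_contra hne
      exact absurd (hM.le_of_ge ⟨hne, hK⟩ hMK.le) (not_le_of_gt hMK))
      (hpH.trans (Subgroup.card_dvd_of_le hHM))
    exact isNilpotent_of_injective (Subgroup.inclusion hHM) (Subgroup.inclusion_injective hHM)
  · exact hG

end Main

end Cfsg.Agent.Lib.Contrib.MaxInvP
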